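import Mathlib

/-!
Coded square matrices of size at most 125 over the integers modulo 5: lists of rows of small
numbers, and their packed forms, one number with lanes of 32 bits for the whole matrix, which are
multiplied a column at a time and reduced modulo 5 at once.
-/

set_option autoImplicit false

namespace Cfsg.Agent.Lib.LyG2.Code

/-- A packed row. -/
noncomputable def pack : List ℕ → ℕ :=
  List.rec (motive := fun _ => ℕ) 0 (fun x _ ih => Nat.add x (Nat.mul 4294967296 ih))

theorem pack_nil : pack [] = 0 := rfl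

theorem pack_cons (x : ℕ) (l : List ℕ) : pack (x :: l) = x + 4294967296 * pack l := rfl

theorem pack_map_mul (c : ℕ) : ∀ l : List ℕ, pack (l.map (c * ·)) = c * pack l
  | [] => by simp [pack_nil]
  | x :: l => by rw [List.map_cons, pack_cons, pack_cons, pack_map_mul c l]; ring

theorem pack_zipWith : ∀ {l m : List ℕ}, l.length = m.length →
    pack (List.zipWith (· + ·) l m) = pack l + pack m
  | [], [], _ => by simp [pack_nil]
  | [], _ :: _, h => by simp at h
  | _ :: _, [], h => by simp at h
  | x :: l, y :: m, h => by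
    rw [List.zipWith_cons_cons, pack_cons, pack_cons, pack_cons,
      pack_zipWith (l := l) (m := m) (by simpa using h)]
    ring

theorem pack_replicate (n : ℕ) : pack (List.replicate n 0) = 0 := by
  induction n with
  | zero => rfl
  | succ n ih => rw [List.replicate_succ, pack_cons, ih]

theorem pack_inj : ∀ {l m : List ℕ}, l.length = m.length → (∀ x ∈ l, x < 4294967296) →
    (∀ x ∈ m, x < 4294967296) → pack l = pack m → l = m
  | [], [], _, _, _, _ => rfl
  | [], _ :: _, h, _, _, _ => by simp at h
  | _ :: _, [], h, _, _, _ => by simp at h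
  | x :: l, y :: m, h, hl, hm, e => by
    rw [pack_cons, pack_cons] at e
    have hx := hl x List.mem_cons_self
    have hy := hm y List.mem_cons_self
    have h1 : x = y ∧ pack l = pack m := by omega
    rw [h1.1, pack_inj (by simpa using h) (fun z hz => hl z (List.mem_cons_of_mem _ hz))
      (fun z hz => hm z (List.mem_cons_of_mem _ hz)) h1.2]

/-- The mask of quotients. -/
noncomputable def mask (n : ℕ) : ℕ :=
  Nat.rec (motive := fun _ => ℕ) 0 (fun _ ih => Nat.add 16383 (Nat.mul 4294967296 ih)) n

/-- Reduction of all lanes of a packed row modulo 5. -/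
noncomputable def red (M X : ℕ) : ℕ :=
  Nat.sub X (Nat.mul 5 (Nat.land (Nat.shiftRight (Nat.mul X 52429) 18) M))

theorem quot_spec : ∀ (v : List ℕ), (∀ x ∈ v, x ≤ 2000) →
    Nat.land (Nat.shiftRight (pack v * 52429) 18) (mask v.length) = pack (v.map (· / 5))
  | [], _ => by simp [pack_nil, mask]
  | x :: v, h => by
    have hx := h x List.mem_cons_self
    have ih := quot_spec v fun z hz => h z (List.mem_cons_of_mem _ hz)
    have hq : x * 52429 / 2 ^ 18 = x / 5 := by omega
    have hs : Nat.shiftRight (pack (x :: v) * 52429) 18 = x / 5 + 2 ^ 14 * (pack v * 52429) := by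
      show (pack (x :: v) * 52429) >>> 18 = _
      rw [Nat.shiftRight_eq_div_pow, pack_cons,
        show (x + 4294967296 * pack v) * 52429 = x * 52429 + 2 ^ 18 * (2 ^ 14 * (pack v * 52429)) by
          ring,
        Nat.add_mul_div_left _ _ (by norm_num : 0 < 2 ^ 18), hq]
    have hm : mask (x :: v).length = 16383 + 4294967296 * mask v.length := rfl
    rw [hs, hm, List.map_cons, pack_cons, ← ih]
    show (x / 5 + 2 ^ 14 * (pack v * 52429)) &&& (16383 + 4294967296 * mask v.length) =
      x / 5 + 4294967296 * ((pack v * 52429) >>> 18 &&& mask v.length)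
    conv_lhs => rw [← Nat.mod_add_div (_ &&& _) (2 ^ 32)]
    rw [Nat.and_mod_two_pow, Nat.and_div_two_pow]
    have e1 : (16383 + 4294967296 * mask v.length) % 2 ^ 32 = 2 ^ 14 - 1 := by omega
    have e2 : (16383 + 4294967296 * mask v.length) / 2 ^ 32 = mask v.length := by omega
    have e3 : (x / 5 + 2 ^ 14 * (pack v * 52429)) % 2 ^ 32 % 2 ^ 14 = x / 5 := by omega
    have e4 : (x / 5 + 2 ^ 14 * (pack v * 52429)) / 2 ^ 32 = (pack v * 52429) >>> 18 := by
      rw [Nat.shiftRight_eq_div_pow]; omega
    rw [e1, e2, Nat.and_two_pow_sub_one_eq_mod, e3, e4]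
    norm_num

theorem pack_mod_div : ∀ v : List ℕ, pack v = pack (v.map (· % 5)) + 5 * pack (v.map (· / 5))
  | [] => by simp [pack_nil]
  | x :: v => by
    rw [List.map_cons, List.map_cons, pack_cons, pack_cons, pack_cons]
    have := pack_mod_div v
    omega

theorem red_pack {v : List ℕ} (h : ∀ x ∈ v, x ≤ 2000) :
    red (mask v.length) (pack v) = pack (v.map (· % 5)) := by
  have h1 := quot_spec v h
  show pack v - 5 * Nat.land (Nat.shiftRight (pack v * 52429) 18) (mask v.length) = _
  rw [h1]
  have := pack_mod_div v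
  omega

/-- Combination of rows. -/
def vdot (n : ℕ) : List ℕ → List (List ℕ) → List ℕ
  | c :: a, b :: L => List.zipWith (· + ·) (b.map (c * ·)) (vdot n a L)
  | [], _ => List.replicate n 0
  | _ :: _, [] => List.replicate n 0

/-- Combination of packed rows. -/
noncomputable def dot : List ℕ → List ℕ → ℕ :=
  fun a => List.rec (motive := fun _ => List ℕ → ℕ) (fun _ => 0)
    (fun c _ ih B => List.rec (motive := fun _ => ℕ) 0
      (fun b B' _ => Nat.add (Nat.mul c b) (ih B')) B) a

/-- A list of rows of a reduced square matrix. -/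
def OK (n : ℕ) (L : List (List ℕ)) : Prop :=
  L.length = n ∧ ∀ r ∈ L, r.length = n ∧ ∀ x ∈ r, x ≤ 4

theorem vdot_length {n : ℕ} : ∀ {a : List ℕ} {L : List (List ℕ)}, (∀ r ∈ L, r.length = n) →
    (vdot n a L).length = n
  | [], _, _ => by simp [vdot]
  | _ :: _, [], _ => by simp [vdot]
  | c :: a, b :: L, h => by
    rw [vdot, List.length_zipWith, List.length_map, h b List.mem_cons_self,
      vdot_length fun r hr => h r (List.mem_cons_of_mem _ hr), min_self]

theorem dot_map_pack {n : ℕ} : ∀ {a : List ℕ} {L : List (List ℕ)}, (∀ r ∈ L, r.length = n) →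
    dot a (L.map pack) = pack (vdot n a L)
  | [], _, _ => by rw [vdot, pack_replicate]; rfl
  | _ :: _, [], _ => by rw [vdot, pack_replicate]; rfl
  | c :: a, b :: L, h => by
    have h' : ∀ r ∈ L, r.length = n := fun r hr => h r (List.mem_cons_of_mem _ hr)
    rw [vdot, pack_zipWith (by rw [List.length_map, h b List.mem_cons_self, vdot_length h']),
      pack_map_mul, ← dot_map_pack h']
    rfl

theorem getD_zipWith_add : ∀ {l m : List ℕ} (j : ℕ), l.length = m.length →
    (List.zipWith (· + ·) l m).getD j 0 = l.getD j 0 + m.getD j 0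
  | [], [], _, _ => by simp
  | [], _ :: _, _, h => by simp at h
  | _ :: _, [], _, h => by simp at h
  | x :: l, y :: m, 0, _ => by simp
  | x :: l, y :: m, j + 1, h => by
    simpa using getD_zipWith_add (l := l) (m := m) j (by simpa using h)

theorem getD_map_mul (c : ℕ) : ∀ (l : List ℕ) (j : ℕ),
    (l.map (c * ·)).getD j 0 = c * l.getD j 0
  | [], _ => by simp
  | _ :: _, 0 => by simp
  | _ :: l, j + 1 => by simpa using getD_map_mul c l j

theorem vdot_getD {n : ℕ} (j : ℕ) : ∀ {a : List ℕ} {L : List (List ℕ)}, (∀ r ∈ L, r.length = n) →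
    a.length = L.length →
    (vdot n a L).getD j 0 = ∑ q ∈ Finset.range L.length, a.getD q 0 * (L.getD q []).getD j 0
  | [], [], _, _ => by
    rcases Nat.lt_or_ge j n with h | h <;> simp [vdot, List.getD_eq_getElem?_getD, h]
  | [], _ :: _, _, e => by simp at e
  | _ :: _, [], _, e => by simp at e
  | c :: a, b :: L, h, e => by
    have h' : ∀ r ∈ L, r.length = n := fun r hr => h r (List.mem_cons_of_mem _ hr)
    rw [vdot, getD_zipWith_add j (by rw [List.length_map, h b List.mem_cons_self, vdot_length h']),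
      getD_map_mul, vdot_getD j h' (by simpa using e), List.length_cons, Finset.sum_range_succ',
      add_comm]
    simp only [List.getD_cons_succ, List.getD_cons_zero]

theorem getD_le {B : ℕ} {l : List ℕ} (h : ∀ x ∈ l, x ≤ B) (j : ℕ) : l.getD j 0 ≤ B := by
  rcases Nat.lt_or_ge j l.length with hj | hj
  · rw [List.getD_eq_getElem _ _ hj]; exact h _ (List.getElem_mem hj)
  · rw [List.getD_eq_default _ _ hj]; exact Nat.zero_le _

theorem getD_mem_le {n : ℕ} {L : List (List ℕ)} (h : OK n L) (q j : ℕ) :
    (L.getD q []).getD j 0 ≤ 4 := by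
  rcases Nat.lt_or_ge q L.length with hq | hq
  · rw [List.getD_eq_getElem _ _ hq]; exact getD_le (h.2 _ (List.getElem_mem hq)).2 j
  · rw [List.getD_eq_default _ _ hq]; simp

theorem vdot_le {n : ℕ} (hn : n ≤ 125) {a : List ℕ} {L : List (List ℕ)} (hL : OK n L)
    (ha : a.length = n ∧ ∀ x ∈ a, x ≤ 4) : ∀ x ∈ vdot n a L, x ≤ 2000 := by
  intro x hx
  obtain ⟨j, hj, rfl⟩ := List.mem_iff_getElem.1 hx
  rw [← List.getD_eq_getElem _ 0 hj,
    vdot_getD j (fun r hr => (hL.2 r hr).1) (ha.1.trans hL.1.symm)]
  refine (Finset.sum_le_card_nsmul _ _ 16 fun q _ => ?_).trans ?_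
  · exact (Nat.mul_le_mul (getD_le ha.2 q) (getD_mem_le hL q j)).trans (by norm_num)
  · rw [Finset.card_range, hL.1, smul_eq_mul]; omega

/-- The reduced product of coded matrices. -/
def mulL (n : ℕ) (A L : List (List ℕ)) : List (List ℕ) :=
  A.map fun a => (vdot n a L).map (· % 5)

theorem OK_mulL {n : ℕ} {A L : List (List ℕ)} (hA : OK n A) (hL : OK n L) : OK n (mulL n A L) := by
  refine ⟨by rw [mulL, List.length_map, hA.1], fun r hr => ?_⟩
  obtain ⟨a, -, rfl⟩ := List.mem_map.1 hr
  refine ⟨by rw [List.length_map, vdot_length fun r hr => (hL.2 r hr).1], fun x hx => ?_⟩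
  obtain ⟨y, -, rfl⟩ := List.mem_map.1 hx
  omega

/-- Numbers as digits of the given number of bits. -/
noncomputable def packB (S : ℕ) : List ℕ → ℕ :=
  List.rec (motive := fun _ => ℕ) 0 (fun x _ ih => Nat.add x (Nat.mul (Nat.pow 2 S) ih))

theorem packB_cons (S x : ℕ) (l : List ℕ) : packB S (x :: l) = x + 2 ^ S * packB S l := rfl

/-- A packed matrix. -/
noncomputable def packM (n : ℕ) (L : List (List ℕ)) : ℕ := packB (32 * n) (L.map pack)

theorem pack_append : ∀ u v : List ℕ, pack (u ++ v) = pack u + 2 ^ (32 * u.length) * pack v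
  | [], v => by simp [pack_nil]
  | x :: u, v => by
    rw [List.cons_append, pack_cons, pack_cons, pack_append u v, List.length_cons,
      show 32 * (u.length + 1) = 32 + 32 * u.length by ring, pow_add]
    norm_num
    ring

theorem pack_lt : ∀ {v : List ℕ}, (∀ x ∈ v, x < 4294967296) → pack v < 2 ^ (32 * v.length)
  | [], _ => by simp [pack_nil]
  | x :: v, h => by
    have hx := h x List.mem_cons_self
    have hv := pack_lt (v := v) fun y hy => h y (List.mem_cons_of_mem _ hy)
    rw [pack_cons, List.length_cons, show 32 * (v.length + 1) = 32 + 32 * v.length by ring, pow_add,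
      show (2 : ℕ) ^ 32 = 4294967296 by norm_num]
    omega

theorem pack_flatten {n : ℕ} : ∀ {L : List (List ℕ)}, (∀ r ∈ L, r.length = n) →
    pack L.flatten = packM n L
  | [], _ => rfl
  | r :: L, h => by
    rw [List.flatten_cons, pack_append, h r List.mem_cons_self,
      pack_flatten fun x hx => h x (List.mem_cons_of_mem _ hx)]
    rfl

theorem length_flatten {n : ℕ} : ∀ {L : List (List ℕ)}, (∀ r ∈ L, r.length = n) →
    L.flatten.length = L.length * n
  | [], _ => by simp
  | r :: L, h => by
    rw [List.flatten_cons, List.length_append, h r List.mem_cons_self,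
      length_flatten fun x hx => h x (List.mem_cons_of_mem _ hx), List.length_cons]
    ring

/-- The mask of quotients of a whole matrix. -/
noncomputable def maskM (n : ℕ) : ℕ :=
  Nat.rec (motive := fun _ => ℕ) 0
    (fun _ ih => Nat.add (mask n) (Nat.mul (Nat.pow 2 (32 * n)) ih)) n

theorem mask_add : ∀ a b : ℕ, mask (a + b) = mask a + 2 ^ (32 * a) * mask b
  | 0, b => by simp [mask]
  | a + 1, b => by
    rw [show a + 1 + b = a + b + 1 by omega]
    show 16383 + 4294967296 * mask (a + b) = 16383 + 4294967296 * mask a + _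
    rw [mask_add a b, show 32 * (a + 1) = 32 + 32 * a by ring, pow_add]
    norm_num
    ring

theorem mask_sq (n : ℕ) : mask (n * n) = maskM n := by
  have h : ∀ k, mask (k * n) = Nat.rec (motive := fun _ => ℕ) 0
      (fun _ ih => Nat.add (mask n) (Nat.mul (Nat.pow 2 (32 * n)) ih)) k := by
    intro k
    induction k with
    | zero => simp [mask]
    | succ k ih =>
      rw [show (k + 1) * n = n + k * n by ring, mask_add, ih]
      rfl
  exact h n

/-- The mask of one column of a matrix with `k` rows. -/
noncomputable def maskCol (S k : ℕ) : ℕ :=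
  Nat.rec (motive := fun _ => ℕ) 0 (fun _ ih => Nat.add 15 (Nat.mul (Nat.pow 2 S) ih)) k

theorem getD_pack : ∀ {v : List ℕ} (q : ℕ), (∀ x ∈ v, x ≤ 4) →
    pack v / 2 ^ (32 * q) % 16 = v.getD q 0
  | [], q, _ => by simp [pack_nil]
  | x :: v, 0, h => by
    have := h x List.mem_cons_self
    rw [pack_cons, List.getD_cons_zero]
    norm_num
    omega
  | x :: v, q + 1, h => by
    have := h x List.mem_cons_self
    have e : (x + 4294967296 * pack v) / 4294967296 = pack v := by omega
    rw [pack_cons, show 32 * (q + 1) = 32 + 32 * q by ring, pow_add, ← Nat.div_div_eq_div_mul,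
      show (2 : ℕ) ^ 32 = 4294967296 by norm_num, e,
      getD_pack q fun y hy => h y (List.mem_cons_of_mem _ hy), List.getD_cons_succ]

theorem land_col {S t : ℕ} (ht : t + 4 ≤ S) : ∀ {rs : List ℕ}, (∀ r ∈ rs, r < 2 ^ S) →
    (packB S rs >>> t) &&& maskCol S rs.length = packB S (rs.map fun r => r / 2 ^ t % 16)
  | [], _ => by simp [packB, maskCol]
  | r :: rs, h => by
    have hr := h r List.mem_cons_self
    have ih := land_col ht (rs := rs) fun x hx => h x (List.mem_cons_of_mem _ hx)
    obtain ⟨d, rfl⟩ : ∃ d, S = t + (4 + d) := ⟨S - t - 4, by omega⟩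
    have hs : packB (t + (4 + d)) (r :: rs) >>> t =
        r / 2 ^ t + 2 ^ (4 + d) * packB (t + (4 + d)) rs := by
      rw [Nat.shiftRight_eq_div_pow, packB_cons, pow_add, mul_assoc,
        Nat.add_mul_div_left _ _ (by positivity)]
    have hm : maskCol (t + (4 + d)) (r :: rs).length =
        15 + 2 ^ (t + (4 + d)) * maskCol (t + (4 + d)) rs.length := rfl
    have hlt : r / 2 ^ t < 2 ^ (4 + d) := by
      rw [Nat.div_lt_iff_lt_mul (by positivity), ← pow_add, add_comm]
      exact hr
    have h15 : (15 : ℕ) < 2 ^ (t + (4 + d)) :=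
      lt_of_lt_of_le (by norm_num) (Nat.pow_le_pow_right (n := 2) (i := 4) (by norm_num) (by omega))
    rw [hs, hm, List.map_cons, packB_cons, ← ih]
    conv_lhs => rw [← Nat.mod_add_div (_ &&& _) (2 ^ (t + (4 + d)))]
    rw [Nat.and_mod_two_pow, Nat.and_div_two_pow]
    have e1 : (15 + 2 ^ (t + (4 + d)) * maskCol (t + (4 + d)) rs.length) % 2 ^ (t + (4 + d)) =
        2 ^ 4 - 1 := by
      rw [Nat.add_mul_mod_self_left, Nat.mod_eq_of_lt h15]; norm_num
    have e2 : (15 + 2 ^ (t + (4 + d)) * maskCol (t + (4 + d)) rs.length) / 2 ^ (t + (4 + d)) =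
        maskCol (t + (4 + d)) rs.length := by
      rw [Nat.add_mul_div_left _ _ (by positivity), Nat.div_eq_of_lt h15, zero_add]
    have e3 : (r / 2 ^ t + 2 ^ (4 + d) * packB (t + (4 + d)) rs) % 2 ^ (t + (4 + d)) % 2 ^ 4 =
        r / 2 ^ t % 16 := by
      rw [Nat.mod_mod_of_dvd _ (pow_dvd_pow 2 (by omega)), pow_add 2 4 d, mul_assoc,
        Nat.add_mul_mod_self_left]
      norm_num
    have e4 : (r / 2 ^ t + 2 ^ (4 + d) * packB (t + (4 + d)) rs) / 2 ^ (t + (4 + d)) =
        packB (t + (4 + d)) rs >>> t := by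
      rw [add_comm t (4 + d), pow_add 2 (4 + d) t, ← Nat.div_div_eq_div_mul,
        Nat.add_mul_div_left _ _ (by positivity), Nat.div_eq_of_lt hlt, zero_add,
        Nat.shiftRight_eq_div_pow, add_comm (4 + d) t]
    rw [e1, e2, Nat.and_two_pow_sub_one_eq_mod, e3, e4]

/-- The columns of a packed matrix, times packed rows, added up. -/
noncomputable def colsMul (P M : ℕ) : List ℕ → ℕ → ℕ :=
  fun Bs => List.rec (motive := fun _ => ℕ → ℕ) (fun _ => 0)
    (fun b _ ih s =>
      Nat.add (Nat.mul (Nat.land (Nat.shiftRight P s) M) b) (ih (Nat.add s 32))) Bs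

theorem packB_mul_add (S b : ℕ) (f g : List ℕ → ℕ) : ∀ L : List (List ℕ),
    packB S (L.map fun l => f l * b + g l) = packB S (L.map f) * b + packB S (L.map g)
  | [] => by simp [packB]
  | l :: L => by
    simp only [List.map_cons, packB_cons, packB_mul_add S b f g L]
    ring

theorem packB_map_zero (S : ℕ) : ∀ L : List (List ℕ), packB S (L.map fun _ => (0 : ℕ)) = 0
  | [] => rfl
  | l :: L => by rw [List.map_cons, packB_cons, packB_map_zero S L]; simp

theorem colsMul_spec {n : ℕ} {L : List (List ℕ)} (hL : OK n L) : ∀ (Bs : List ℕ) (q : ℕ),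
    q + Bs.length = n →
    colsMul (packM n L) (maskCol (32 * n) n) Bs (32 * q) =
      packB (32 * n) (L.map fun l => dot (l.drop q) Bs)
  | [], q, _ => by
    rw [show (L.map fun l => dot (l.drop q) []) = L.map fun _ => (0 : ℕ) from
      List.map_congr_left fun l _ => by cases l.drop q <;> rfl, packB_map_zero]
    rfl
  | b :: Bs, q, hq => by
    simp only [List.length_cons] at hq
    have ih := colsMul_spec hL Bs (q + 1) (by omega)
    have hcol : (packM n L >>> (32 * q)) &&& maskCol (32 * n) n =
        packB (32 * n) (L.map fun l => l.getD q 0) := by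
      have h := land_col (S := 32 * n) (t := 32 * q) (by omega) (rs := L.map pack)
        (fun r hr => by
          obtain ⟨l, hl, rfl⟩ := List.mem_map.1 hr
          rw [← (hL.2 l hl).1]
          exact pack_lt fun x hx => by have := (hL.2 l hl).2 x hx; omega)
      rw [List.length_map, hL.1, List.map_map] at h
      refine h.trans (congrArg _ (List.map_congr_left fun l hl => ?_))
      exact getD_pack q (hL.2 l hl).2
    show (packM n L >>> (32 * q) &&& maskCol (32 * n) n) * b +
      colsMul (packM n L) (maskCol (32 * n) n) Bs (32 * q + 32) = _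
    rw [hcol, show 32 * q + 32 = 32 * (q + 1) by ring, ih, ← packB_mul_add]
    refine congrArg _ (List.map_congr_left fun l hl => ?_)
    have hlen : q < l.length := by rw [(hL.2 l hl).1]; omega
    rw [List.drop_eq_getElem_cons hlen, List.getD_eq_getElem _ _ hlen]
    rfl

/-- The product of a packed matrix and packed rows. -/
noncomputable def mulM (n P : ℕ) (Bs : List ℕ) : ℕ :=
  red (maskM n) (colsMul P (maskCol (32 * n) n) Bs 0)

theorem mulM_pack {n : ℕ} (hn : n ≤ 125) {L A : List (List ℕ)} (hL : OK n L) (hA : OK n A) :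
    mulM n (packM n L) (A.map pack) = packM n (mulL n L A) := by
  have hA' : ∀ r ∈ A, r.length = n := fun r hr => (hA.2 r hr).1
  have h := colsMul_spec hL (A.map pack) 0 (by rw [List.length_map, hA.1, zero_add])
  rw [mul_zero] at h
  have hV : ∀ r ∈ L.map fun l => vdot n l A, r.length = n := by
    intro r hr
    obtain ⟨l, -, rfl⟩ := List.mem_map.1 hr
    exact vdot_length hA'
  have e : colsMul (packM n L) (maskCol (32 * n) n) (A.map pack) 0 =
      pack (L.map fun l => vdot n l A).flatten := by
    rw [h, pack_flatten hV, packM, List.map_map]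
    exact congrArg _ (List.map_congr_left fun l _ => by
      rw [List.drop_zero, Function.comp_apply, dot_map_pack hA'])
  have hlen : (L.map fun l => vdot n l A).flatten.length = n * n := by
    rw [length_flatten hV, List.length_map, hL.1]
  have hle : ∀ x ∈ (L.map fun l => vdot n l A).flatten, x ≤ 2000 := by
    intro x hx
    obtain ⟨r, hr, hxr⟩ := List.mem_flatten.1 hx
    obtain ⟨l, hl, rfl⟩ := List.mem_map.1 hr
    exact vdot_le hn hA (hL.2 l hl) x hxr
  have h3 := red_pack hle
  rw [hlen, mask_sq, ← e] at h3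
  rw [mulM, h3, List.map_flatten, List.map_map]
  exact pack_flatten fun r hr => ((OK_mulL hL hA).2 r hr).1

/-- The matrix of a code. -/
def val (n : ℕ) (A : List (List ℕ)) : Matrix (Fin n) (Fin n) (ZMod 5) :=
  Matrix.of fun i j => ((A.getD i.1 []).getD j.1 0 : ZMod 5)

theorem val_mulL {n : ℕ} {A L : List (List ℕ)} (hA : OK n A) (hL : OK n L) :
    val n (mulL n A L) = val n A * val n L := by
  ext i j
  have hi : i.1 < A.length := by rw [hA.1]; exact i.2
  have hLl : ∀ r ∈ L, r.length = n := fun r hr => (hL.2 r hr).1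
  simp only [val, Matrix.mul_apply, Matrix.of_apply]
  have hrow : (mulL n A L).getD i.1 [] = (vdot n A[i.1] L).map (· % 5) := by
    rw [mulL, List.getD_eq_getElem _ _ (by rwa [List.length_map]), List.getElem_map]
  rw [hrow, List.getD_eq_getElem _ _ (by rw [List.length_map, vdot_length hLl]; exact j.2),
    List.getElem_map, ← List.getD_eq_getElem _ 0,
    vdot_getD j.1 hLl ((hA.2 _ (List.getElem_mem hi)).1.trans hL.1.symm),
    hL.1, ZMod.natCast_mod, Nat.cast_sum, ← Fin.sum_univ_eq_sum_range]
  refine Finset.sum_congr rfl fun q _ => ?_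
  rw [Nat.cast_mul, List.getD_eq_getElem _ _ hi]

/-- The test for a reduced square matrix. -/
noncomputable def okB (n : ℕ) (L : List (List ℕ)) : Bool :=
  Nat.beq L.length n && L.all fun r => Nat.beq r.length n && r.all fun x => Nat.ble x 4

theorem OK_of_okB {n : ℕ} {L : List (List ℕ)} (h : okB n L = true) : OK n L := by
  simp only [okB, Bool.and_eq_true, Nat.beq_eq, List.all_eq_true, Nat.ble_eq] at h
  exact h

/-- The identity matrix. -/
def oneL (n : ℕ) : List (List ℕ) :=
  (List.range n).map fun i => (List.range n).map fun j => cond (Nat.beq i j) 1 0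

theorem OK_oneL (n : ℕ) : OK n (oneL n) := by
  refine ⟨by simp [oneL], fun r hr => ?_⟩
  obtain ⟨i, -, rfl⟩ := List.mem_map.1 hr
  refine ⟨by simp, fun x hx => ?_⟩
  obtain ⟨j, -, rfl⟩ := List.mem_map.1 hx
  cases Nat.beq i j <;> simp

theorem val_oneL (n : ℕ) : val n (oneL n) = 1 := by
  ext i j
  simp only [val, oneL, Matrix.of_apply, Matrix.one_apply]
  simp only [List.getD_eq_getElem?_getD, List.getElem?_map, List.getElem?_range i.2,
    List.getElem?_range j.2, Option.map_some, Option.getD_some]
  by_cases hij : i = j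
  · subst hij; simp
  · have : Nat.beq i.1 j.1 = false := by
      rw [Bool.eq_false_iff, Ne, Nat.beq_eq]
      exact fun h => hij (Fin.ext h)
    rw [this, if_neg hij]; simp

theorem packM_inj {n : ℕ} {L L' : List (List ℕ)} (hL : OK n L) (hL' : OK n L')
    (h : packM n L = packM n L') : L = L' := by
  have hl : ∀ r ∈ L, r.length = n := fun r hr => (hL.2 r hr).1
  have hl' : ∀ r ∈ L', r.length = n := fun r hr => (hL'.2 r hr).1
  have hb : ∀ {K : List (List ℕ)}, OK n K → ∀ x ∈ K.flatten, x < 4294967296 := by
    intro K hK x hx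
    obtain ⟨r, hr, hxr⟩ := List.mem_flatten.1 hx
    have := (hK.2 r hr).2 x hxr
    omega
  rw [← pack_flatten hl, ← pack_flatten hl'] at h
  refine List.eq_iff_flatten_eq.2 ⟨pack_inj ?_ (hb hL) (hb hL') h, ?_⟩
  · rw [length_flatten hl, length_flatten hl', hL.1, hL'.1]
  · rw [List.map_congr_left hl, List.map_congr_left hl', List.map_const', List.map_const', hL.1,
      hL'.1]

/-- Equality of packed matrices, comparing each row once. -/
noncomputable def eqRows : List ℕ → List ℕ → Bool :=
  fun A => List.rec (motive := fun _ => List ℕ → Bool)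
    (fun B => List.rec (motive := fun _ => Bool) true (fun _ _ _ => false) B)
    (fun a _ ih B => List.rec (motive := fun _ => Bool) false
      (fun b B' _ => Nat.beq a b && ih B') B) A

theorem eqRows_eq : ∀ {A B : List ℕ}, eqRows A B = true → A = B
  | [], [], _ => rfl
  | [], _ :: _, h => absurd (show false = true from h) (by simp)
  | _ :: _, [], h => absurd (show false = true from h) (by simp)
  | a :: A, b :: B, h => by
    have h' : (Nat.beq a b && eqRows A B) = true := h
    simp only [Bool.and_eq_true, Nat.beq_eq] at h'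
    rw [h'.1, eqRows_eq h'.2]

theorem map_pack_inj {n : ℕ} : ∀ {L L' : List (List ℕ)}, (∀ r ∈ L, r.length = n ∧ ∀ x ∈ r, x ≤ 4) →
    (∀ r ∈ L', r.length = n ∧ ∀ x ∈ r, x ≤ 4) → L.map pack = L'.map pack → L = L'
  | [], [], _, _, _ => rfl
  | [], _ :: _, _, _, h => by simp at h
  | _ :: _, [], _, _, h => by simp at h
  | r :: L, r' :: L', hL, hL', h => by
    simp only [List.map_cons, List.cons.injEq] at h
    have h1 := hL r List.mem_cons_self
    have h2 := hL' r' List.mem_cons_self
    rw [pack_inj (h1.1.trans h2.1.symm) (fun x hx => by have := h1.2 x hx; omega)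
        (fun x hx => by have := h2.2 x hx; omega) h.1,
      map_pack_inj (fun x hx => hL x (List.mem_cons_of_mem _ hx))
        (fun x hx => hL' x (List.mem_cons_of_mem _ hx)) h.2]

/-- The entries of a packed row. -/
def lanesL (n r : ℕ) : List ℕ := (List.range n).map fun q => r / 2 ^ (32 * q) % 16

theorem lanesL_succ (n r : ℕ) : lanesL (n + 1) r = r % 16 :: lanesL n (r / 4294967296) := by
  rw [lanesL, List.range_succ_eq_map, List.map_cons, List.map_map, lanesL]
  refine congrArg₂ List.cons (by simp) (List.map_congr_left fun q _ => ?_)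
  rw [Function.comp_apply, show 32 * Nat.succ q = 32 + 32 * q by rw [Nat.succ_eq_add_one]; ring,
    pow_add, ← Nat.div_div_eq_div_mul]
  norm_num

theorem land_lanes : ∀ (n r : ℕ), r &&& maskCol 32 n = pack (lanesL n r)
  | 0, r => by simp [maskCol, lanesL, pack_nil]
  | n + 1, r => by
    rw [lanesL_succ, pack_cons, ← land_lanes n]
    show r &&& (15 + 4294967296 * maskCol 32 n) = _
    conv_lhs => rw [← Nat.mod_add_div (_ &&& _) (2 ^ 32)]
    rw [Nat.and_mod_two_pow, Nat.and_div_two_pow]
    have e1 : (15 + 4294967296 * maskCol 32 n) % 2 ^ 32 = 2 ^ 4 - 1 := by omega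
    have e2 : (15 + 4294967296 * maskCol 32 n) / 2 ^ 32 = maskCol 32 n := by omega
    have e3 : r % 2 ^ 32 % 2 ^ 4 = r % 16 := by omega
    rw [e1, e2, Nat.and_two_pow_sub_one_eq_mod, e3]
    norm_num

/-- The test for a packed reduced row. -/
noncomputable def okRow (n r : ℕ) : Bool :=
  Nat.beq (Nat.land r (maskCol 32 n)) r && Nat.beq (red (mask n) r) r

theorem okRow_spec {n r : ℕ} (h : okRow n r = true) :
    pack (lanesL n r) = r ∧ ∀ x ∈ lanesL n r, x ≤ 4 := by
  simp only [okRow, Bool.and_eq_true, Nat.beq_eq] at h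
  have e : pack (lanesL n r) = r := (land_lanes n r).symm.trans h.1
  refine ⟨e, ?_⟩
  have hle : ∀ x ∈ lanesL n r, x ≤ 2000 := by
    intro x hx
    obtain ⟨q, -, rfl⟩ := List.mem_map.1 hx
    omega
  have hlen : (lanesL n r).length = n := by simp [lanesL]
  have h2 := red_pack hle
  rw [hlen, e, h.2] at h2
  have h3 := pack_inj (l := lanesL n r) (m := (lanesL n r).map (· % 5)) (by simp)
    (fun x hx => by have := hle x hx; omega)
    (fun x hx => by obtain ⟨y, -, rfl⟩ := List.mem_map.1 hx; omega) (e.trans h2)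
  intro x hx
  rw [h3] at hx
  obtain ⟨y, -, rfl⟩ := List.mem_map.1 hx
  omega

end Cfsg.Agent.Lib.LyG2.Code
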