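import Cfsg.Agent.Lib.LyG2.Code
import Cfsg.Agent.Lib.ExactCover.Std

/-!
Evaluation of words in coded matrices.
-/

set_option autoImplicit false

namespace Cfsg.Agent.Lib.LyG2

open Cfsg.Agent.Lib.ExactCover

/-- Coded matrices for generators and their inverses, with packed rows and checks. -/
structure Alphabet (n m : ℕ) where
  prows : ℕ → List ℕ
  oneP : ℕ
  bound : n ≤ 125
  one_ok : Nat.beq oneP (Code.packM n (Code.oneL n)) = true
  pairs_ok : ((List.range (2 * m)).all fun g => (Nat.beq (prows g).length n &&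
    (prows g).all (Code.okRow n)) &&
    Nat.beq (Code.mulM n (Code.packB (32 * n) (prows g)) (prows (ExactCover.flip g))) oneP) = true

namespace Alphabet

variable {n m : ℕ} (A : Alphabet n m)

/-- The rows of a letter. -/
def rows (g : ℕ) : List (List ℕ) := (A.prows g).map (Code.lanesL n)

theorem oneP_eq : A.oneP = Code.packM n (Code.oneL n) := Nat.eq_of_beq_eq_true A.one_ok

theorem flip_lt {g : ℕ} (hg : g < 2 * m) : ExactCover.flip g < 2 * m := by
  unfold ExactCover.flip; split <;> omega

theorem flip_flip (g : ℕ) : ExactCover.flip (ExactCover.flip g) = g := by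
  simp only [ExactCover.flip]; split_ifs <;> omega

theorem rows_spec {g : ℕ} (hg : g < 2 * m) :
    Code.OK n (A.rows g) ∧ A.prows g = (A.rows g).map Code.pack := by
  have h := List.all_eq_true.1 A.pairs_ok g (List.mem_range.2 hg)
  simp only [Bool.and_eq_true, Nat.beq_eq, List.all_eq_true] at h
  refine ⟨⟨by rw [rows, List.length_map, h.1.1], fun r hr => ?_⟩, ?_⟩
  · obtain ⟨x, hx, rfl⟩ := List.mem_map.1 hr
    exact ⟨by simp [Code.lanesL], (Code.okRow_spec (h.1.2 x hx)).2⟩
  · rw [rows, List.map_map]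
    conv_lhs => rw [← List.map_id (A.prows g)]
    exact List.map_congr_left fun x hx => (Code.okRow_spec (h.1.2 x hx)).1.symm

theorem OK_rows {g : ℕ} (hg : g < 2 * m) : Code.OK n (A.rows g) := (A.rows_spec hg).1

theorem mul_flip {g : ℕ} (hg : g < 2 * m) :
    Code.val n (A.rows g) * Code.val n (A.rows (ExactCover.flip g)) = 1 := by
  have h := List.all_eq_true.1 A.pairs_ok g (List.mem_range.2 hg)
  simp only [Bool.and_eq_true, Nat.beq_eq] at h
  have hA := A.OK_rows hg
  have h2 := A.rows_spec (flip_lt hg)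
  have he := h.2
  rw [(A.rows_spec hg).2, h2.2, A.oneP_eq] at he
  change Code.mulM n (Code.packM n (A.rows g)) _ = _ at he
  rw [Code.mulM_pack A.bound hA h2.1] at he
  rw [← Code.val_mulL hA h2.1, Code.packM_inj (Code.OK_mulL hA h2.1) (Code.OK_oneL n) he,
    Code.val_oneL]

theorem flip_mul {g : ℕ} (hg : g < 2 * m) :
    Code.val n (A.rows (ExactCover.flip g)) * Code.val n (A.rows g) = 1 := by
  have h := A.mul_flip (flip_lt hg)
  rwa [flip_flip] at h

/-- The invertible matrix of a letter. -/
noncomputable def unit (g : ℕ) : GL (Fin n) (ZMod 5) :=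
  if h : g < 2 * m then
    ⟨Code.val n (A.rows g), Code.val n (A.rows (ExactCover.flip g)), A.mul_flip h, A.flip_mul h⟩
  else 1

theorem val_unit {g : ℕ} (hg : g < 2 * m) :
    (A.unit g : Matrix (Fin n) (Fin n) (ZMod 5)) = Code.val n (A.rows g) := by
  rw [unit, dif_pos hg]

variable [NeZero m]

/-- The homomorphism of the free group. -/
noncomputable def hom : FreeGroup (Fin m) →* GL (Fin n) (ZMod 5) :=
  FreeGroup.lift fun i => A.unit (2 * i.val)

theorem hom_letter : ∀ g < 2 * m,
    A.hom (word m [g]) = A.unit g := by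
  refine forall_lt_two_mul fun i => ⟨lift_word_pos _ i, ?_⟩
  rw [hom, lift_word_neg]
  have hi : 2 * i.val < 2 * m := by omega
  have hf : ExactCover.flip (2 * i.val) = 2 * i.val + 1 := by simp [ExactCover.flip]
  refine inv_eq_of_mul_eq_one_right (Units.ext ?_)
  rw [Units.val_mul, A.val_unit hi, A.val_unit (by omega), ← hf, A.mul_flip hi]
  rfl

/-- Right multiplication of a packed matrix by the letters of a word. -/
noncomputable def act : List ℕ → ℕ → ℕ :=
  fun l => List.rec (motive := fun _ => ℕ → ℕ) (fun P => P)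
    (fun g _ ih P => ih (Code.mulM n P (A.prows g))) l

theorem act_spec : ∀ (l : List ℕ), (∀ g ∈ l, g < 2 * m) → ∀ K : List (List ℕ), Code.OK n K →
    ∃ L, Code.OK n L ∧ A.act l (Code.packM n K) = Code.packM n L ∧
      Code.val n L = Code.val n K * (A.hom (word m l) : Matrix (Fin n) (Fin n) (ZMod 5))
  | [], _, K, hK => ⟨K, hK, rfl, by rw [word_nil, map_one]; simp⟩
  | g :: l, h, K, hK => by
    have hg : g < 2 * m := h g List.mem_cons_self
    obtain ⟨L, h1, h2, h3⟩ := act_spec l (fun x hx => h x (List.mem_cons_of_mem _ hx))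
      (Code.mulL n K (A.rows g)) (Code.OK_mulL hK (A.OK_rows hg))
    refine ⟨L, h1, ?_, ?_⟩
    · rw [show A.act (g :: l) (Code.packM n K) = A.act l (Code.mulM n (Code.packM n K) (A.prows g))
          from rfl, (A.rows_spec hg).2, Code.mulM_pack A.bound hK (A.OK_rows hg), h2]
    · rw [h3, Code.val_mulL hK (A.OK_rows hg), word_cons g l, map_mul, Units.val_mul,
        A.hom_letter g hg, A.val_unit hg, mul_assoc]

/-- The test that a word evaluates to a coded matrix. -/
noncomputable def evalsTo (l : List ℕ) (C : List (List ℕ)) : Bool :=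
  ((l.all fun g => Nat.blt g (2 * m)) && Code.okB n C) &&
    Nat.beq (A.act l A.oneP) (Code.packM n C)

theorem val_hom {l : List ℕ} {C : List (List ℕ)} (h : A.evalsTo l C = true) :
    (A.hom (word m l) : Matrix (Fin n) (Fin n) (ZMod 5)) = Code.val n C := by
  simp only [evalsTo, Bool.and_eq_true, List.all_eq_true, Nat.blt_eq, Nat.beq_eq] at h
  obtain ⟨L, h1, h2, h3⟩ := A.act_spec l h.1.1 _ (Code.OK_oneL n)
  rw [A.oneP_eq, h2] at h
  rw [← Code.packM_inj h1 (Code.OK_of_okB h.1.2) h.2, h3, Code.val_oneL, one_mul]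

/-- The test that a word evaluates to the identity. -/
noncomputable def trivW (l : List ℕ) : Bool :=
  (l.all fun g => Nat.blt g (2 * m)) &&
    Nat.beq (A.act l A.oneP) A.oneP

theorem hom_trivW {l : List ℕ} (h : A.trivW l = true) : A.hom (word m l) = 1 := by
  simp only [trivW, Bool.and_eq_true, List.all_eq_true, Nat.blt_eq, Nat.beq_eq] at h
  obtain ⟨L, h1, h2, h3⟩ := A.act_spec l h.1 _ (Code.OK_oneL n)
  rw [A.oneP_eq, h2] at h
  refine Units.ext ?_
  rw [Code.packM_inj h1 (Code.OK_oneL n) h.2, Code.val_oneL, one_mul] at h3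
  rw [← h3]
  rfl

end Alphabet

end Cfsg.Agent.Lib.LyG2
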