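import Cfsg.Agent.Lib.LyG2.Eval
import Cfsg.Agent.Lib.LyG2.SubstData

/-!
The auxiliary generators of the presented Lyons group are words in five of its generators.
-/

set_option autoImplicit false
set_option maxRecDepth 20000
set_option linter.unusedSimpArgs false

namespace Cfsg.Agent.Lib.LyG2

open Cfsg.Spor Cfsg.Agent.Lib.ExactCover

/-- The relators of the presented Lyons group. -/
abbrev relators : Set (FreeGroup Ly.Gen) := coxRelators Ly.edges ∪ {r | r ∈ Ly.extra}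

/-- Rewriting in the five generators. -/
def subst : FreeGroup Ly.Gen →* FreeGroup (Fin 5) := FreeGroup.lift fun g => word 5 (defWord g)

/-- The five generators. -/
def base : Fin 5 → Ly.Gen := ![.a, .b, .c, .d, .z]

/-- Words in the five generators, as words in all of them. -/
def back : FreeGroup (Fin 5) →* FreeGroup Ly.Gen := FreeGroup.lift fun i => FreeGroup.of (base i)

/-- The projection to the presented group. -/
def proj : FreeGroup Ly.Gen →* PresentedGroup relators := PresentedGroup.mk relators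

/-- The projection after rewriting. -/
def rewritten : FreeGroup Ly.Gen →* PresentedGroup relators := (proj.comp back).comp subst

theorem proj_extra {r : FreeGroup Ly.Gen} (hr : r ∈ Ly.extra) : proj r = 1 :=
  PresentedGroup.one_of_mem (Or.inr hr)

theorem mem_extra (k : ℕ) (hk : k < Ly.extra.length) : Ly.extra[k] ∈ Ly.extra := List.getElem_mem hk

theorem agree_of {n : Ly.Gen} {w : FreeGroup Ly.Gen} (hr : FreeGroup.of n * w ∈ Ly.extra)
    (hs : subst (FreeGroup.of n * w) = 1) (hw : rewritten w = proj w) :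
    rewritten (FreeGroup.of n) = proj (FreeGroup.of n) := by
  have h1 := proj_extra hr
  have h2 : rewritten (FreeGroup.of n * w) = 1 := by
    simp only [rewritten, MonoidHom.comp_apply, hs, map_one]
  rw [map_mul] at h1 h2
  rw [hw] at h2
  exact mul_right_cancel (h2.trans h1.symm)

theorem agree_a : rewritten Ly.a = proj Ly.a :=
  congrArg proj (by decide +kernel : back (subst Ly.a) = Ly.a)

theorem agree_b : rewritten Ly.b = proj Ly.b :=
  congrArg proj (by decide +kernel : back (subst Ly.b) = Ly.b)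

theorem agree_c : rewritten Ly.c = proj Ly.c :=
  congrArg proj (by decide +kernel : back (subst Ly.c) = Ly.c)

theorem agree_d : rewritten Ly.d = proj Ly.d :=
  congrArg proj (by decide +kernel : back (subst Ly.d) = Ly.d)

theorem agree_z : rewritten Ly.z = proj Ly.z :=
  congrArg proj (by decide +kernel : back (subst Ly.z) = Ly.z)

theorem agree_c1 : rewritten Ly.c1 = proj Ly.c1 := by
  refine agree_of (w := (Ly.c⁻¹))
    (mem_extra 5 (by decide)) (by decide +kernel) ?_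
  simp only [map_mul, map_inv, map_pow, agree_c]

theorem agree_c2 : rewritten Ly.c2 = proj Ly.c2 := by
  refine agree_of (w := ((Ly.a⁻¹ * Ly.c * Ly.a)⁻¹))
    (mem_extra 6 (by decide)) (by decide +kernel) ?_
  simp only [map_mul, map_inv, map_pow, agree_a, agree_c]

theorem agree_c3 : rewritten Ly.c3 = proj Ly.c3 := by
  refine agree_of (w := ((Ly.b⁻¹ * Ly.c * Ly.b)⁻¹))
    (mem_extra 7 (by decide)) (by decide +kernel) ?_
  simp only [map_mul, map_inv, map_pow, agree_b, agree_c]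

theorem agree_c4 : rewritten Ly.c4 = proj Ly.c4 := by
  refine agree_of (w := (((Ly.b⁻¹)⁻¹ * Ly.c * (Ly.b⁻¹))⁻¹))
    (mem_extra 8 (by decide)) (by decide +kernel) ?_
  simp only [map_mul, map_inv, map_pow, agree_b, agree_c]

theorem agree_c5 : rewritten Ly.c5 = proj Ly.c5 := by
  refine agree_of (w := ((Ly.c1⁻¹ * Ly.c2⁻¹ * Ly.c1 * Ly.c2)⁻¹))
    (mem_extra 9 (by decide)) (by decide +kernel) ?_
  simp only [map_mul, map_inv, map_pow, agree_c1, agree_c2]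

theorem agree_e : rewritten Ly.e = proj Ly.e := by
  refine agree_of (w := ((((Ly.b ^ 2)⁻¹) * (Ly.a⁻¹ * Ly.c1⁻¹ * Ly.a * Ly.c1) * (Ly.a⁻¹) * Ly.c1 * Ly.a * Ly.d * Ly.c1 * Ly.b * Ly.a * (Ly.b⁻¹) * Ly.d * Ly.c1 * Ly.d)⁻¹))
    (mem_extra 28 (by decide)) (by decide +kernel) ?_
  simp only [map_mul, map_inv, map_pow, agree_a, agree_b, agree_d, agree_c1]

theorem agree_a1 : rewritten Ly.a1 = proj Ly.a1 := by
  refine agree_of (w := (Ly.a⁻¹))
    (mem_extra 44 (by decide)) (by decide +kernel) ?_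
  simp only [map_mul, map_inv, map_pow, agree_a]

theorem agree_a2 : rewritten Ly.a2 = proj Ly.a2 := by
  refine agree_of (w := (((Ly.b⁻¹)⁻¹ * Ly.a * (Ly.b⁻¹))⁻¹))
    (mem_extra 45 (by decide)) (by decide +kernel) ?_
  simp only [map_mul, map_inv, map_pow, agree_a, agree_b]

theorem agree_a3 : rewritten Ly.a3 = proj Ly.a3 := by
  refine agree_of (w := ((((Ly.b ^ 2)⁻¹)⁻¹ * Ly.a * ((Ly.b ^ 2)⁻¹))⁻¹))
    (mem_extra 46 (by decide)) (by decide +kernel) ?_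
  simp only [map_mul, map_inv, map_pow, agree_a, agree_b]

theorem agree_a4 : rewritten Ly.a4 = proj Ly.a4 := by
  refine agree_of (w := (((Ly.b ^ 2)⁻¹ * Ly.a * (Ly.b ^ 2))⁻¹))
    (mem_extra 47 (by decide)) (by decide +kernel) ?_
  simp only [map_mul, map_inv, map_pow, agree_a, agree_b]

theorem agree_u : rewritten Ly.u = proj Ly.u := by
  refine agree_of (w := ((Ly.a ^ 2)⁻¹))
    (mem_extra 48 (by decide)) (by decide +kernel) ?_
  simp only [map_mul, map_inv, map_pow, agree_a]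

theorem agree_x23 : rewritten Ly.x23 = proj Ly.x23 := by
  refine agree_of (w := (Ly.d⁻¹))
    (mem_extra 49 (by decide)) (by decide +kernel) ?_
  simp only [map_mul, map_inv, map_pow, agree_d]

theorem agree_x24 : rewritten Ly.x24 = proj Ly.x24 := by
  refine agree_of (w := ((Ly.d⁻¹)⁻¹))
    (mem_extra 50 (by decide)) (by decide +kernel) ?_
  simp only [map_mul, map_inv, map_pow, agree_d]

theorem agree_x25 : rewritten Ly.x25 = proj Ly.x25 := by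
  refine agree_of (w := (((Ly.b ^ 2) * (Ly.a⁻¹) * (Ly.b⁻¹) * (Ly.a⁻¹) * (Ly.b ^ 2) * (Ly.c⁻¹) * Ly.a * Ly.c * (Ly.a⁻¹) * (Ly.c⁻¹) * Ly.d * (Ly.c⁻¹) * (Ly.b ^ 2) * (Ly.a⁻¹) * Ly.c * Ly.b)⁻¹))
    (mem_extra 51 (by decide)) (by decide +kernel) ?_
  simp only [map_mul, map_inv, map_pow, agree_a, agree_b, agree_c, agree_d]

theorem agree_x29 : rewritten Ly.x29 = proj Ly.x29 := by
  refine agree_of (w := ((Ly.a * Ly.b * (Ly.a⁻¹) * (Ly.b ^ 2) * (Ly.a⁻¹) * (Ly.b ^ 2) * (Ly.c⁻¹) * Ly.a * Ly.c * Ly.b * Ly.c * (Ly.b⁻¹) * Ly.d * Ly.c * ((Ly.b ^ 2)⁻¹) * Ly.d * Ly.c * Ly.b * Ly.c)⁻¹))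
    (mem_extra 52 (by decide)) (by decide +kernel) ?_
  simp only [map_mul, map_inv, map_pow, agree_a, agree_b, agree_c, agree_d]

theorem agree_x47 : rewritten Ly.x47 = proj Ly.x47 := by
  refine agree_of (w := (((Ly.c⁻¹) * (Ly.d⁻¹) * (Ly.a⁻¹) * (Ly.c⁻¹) * (Ly.a⁻¹) * Ly.b * (Ly.c⁻¹) * (Ly.d⁻¹))⁻¹))
    (mem_extra 53 (by decide)) (by decide +kernel) ?_
  simp only [map_mul, map_inv, map_pow, agree_a, agree_b, agree_c, agree_d]

theorem agree_x96 : rewritten Ly.x96 = proj Ly.x96 := by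
  refine agree_of (w := ((Ly.b * Ly.d)⁻¹))
    (mem_extra 54 (by decide)) (by decide +kernel) ?_
  simp only [map_mul, map_inv, map_pow, agree_b, agree_d]

theorem agree_x129 : rewritten Ly.x129 = proj Ly.x129 := by
  refine agree_of (w := (((Ly.d⁻¹) * (Ly.b⁻¹))⁻¹))
    (mem_extra 55 (by decide)) (by decide +kernel) ?_
  simp only [map_mul, map_inv, map_pow, agree_b, agree_d]

theorem agree_x162 : rewritten Ly.x162 = proj Ly.x162 := by
  refine agree_of (w := (((Ly.a⁻¹) * (Ly.b⁻¹) * (Ly.a⁻¹) * Ly.b * (Ly.c⁻¹) * (Ly.b⁻¹) * Ly.a * (Ly.c⁻¹) * Ly.b * Ly.a)⁻¹))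
    (mem_extra 56 (by decide)) (by decide +kernel) ?_
  simp only [map_mul, map_inv, map_pow, agree_a, agree_b, agree_c]

theorem agree_x163 : rewritten Ly.x163 = proj Ly.x163 := by
  refine agree_of (w := ((((Ly.b ^ 2)⁻¹) * Ly.a * Ly.c * (Ly.a⁻¹) * Ly.b * Ly.c * Ly.b)⁻¹))
    (mem_extra 57 (by decide)) (by decide +kernel) ?_
  simp only [map_mul, map_inv, map_pow, agree_a, agree_b, agree_c]

theorem agree_x164 : rewritten Ly.x164 = proj Ly.x164 := by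
  refine agree_of (w := (((Ly.a⁻¹) * (Ly.b⁻¹) * (Ly.a⁻¹) * Ly.c * Ly.a * Ly.b * Ly.a)⁻¹))
    (mem_extra 58 (by decide)) (by decide +kernel) ?_
  simp only [map_mul, map_inv, map_pow, agree_a, agree_b, agree_c]

theorem agree_x165 : rewritten Ly.x165 = proj Ly.x165 := by
  refine agree_of (w := (((Ly.b⁻¹) * (Ly.a⁻¹) * Ly.b * Ly.c * (Ly.b⁻¹) * Ly.a * Ly.b)⁻¹))
    (mem_extra 59 (by decide)) (by decide +kernel) ?_
  simp only [map_mul, map_inv, map_pow, agree_a, agree_b, agree_c]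

theorem agree_x166 : rewritten Ly.x166 = proj Ly.x166 := by
  refine agree_of (w := (((Ly.b ^ 2) * (Ly.a⁻¹) * (Ly.b⁻¹) * Ly.c * Ly.b * Ly.a * Ly.c * ((Ly.b ^ 2)⁻¹) * (Ly.c⁻¹))⁻¹))
    (mem_extra 60 (by decide)) (by decide +kernel) ?_
  simp only [map_mul, map_inv, map_pow, agree_a, agree_b, agree_c]

theorem agree_x167 : rewritten Ly.x167 = proj Ly.x167 := by
  refine agree_of (w := (((Ly.a ^ 3)⁻¹)⁻¹))
    (mem_extra 61 (by decide)) (by decide +kernel) ?_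
  simp only [map_mul, map_inv, map_pow, agree_a]

theorem agree_x168 : rewritten Ly.x168 = proj Ly.x168 := by
  refine agree_of (w := ((Ly.b * (Ly.a⁻¹) * (Ly.b⁻¹) * ((Ly.a ^ 2)⁻¹))⁻¹))
    (mem_extra 62 (by decide)) (by decide +kernel) ?_
  simp only [map_mul, map_inv, map_pow, agree_a, agree_b]

theorem agree_x169 : rewritten Ly.x169 = proj Ly.x169 := by
  refine agree_of (w := ((Ly.a * (Ly.b ^ 2) * Ly.a * ((Ly.b ^ 2)⁻¹) * (Ly.a⁻¹))⁻¹))
    (mem_extra 63 (by decide)) (by decide +kernel) ?_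
  simp only [map_mul, map_inv, map_pow, agree_a, agree_b]

theorem agree_x364 : rewritten Ly.x364 = proj Ly.x364 := by
  refine agree_of (w := (((Ly.a⁻¹) * Ly.d * (Ly.b⁻¹) * (Ly.c⁻¹) * (Ly.a⁻¹) * Ly.b * (Ly.c⁻¹) * (Ly.d⁻¹) * Ly.b * (Ly.c⁻¹) * (Ly.b⁻¹) * (Ly.a⁻¹) * (Ly.c⁻¹) * Ly.a * (Ly.b⁻¹) * Ly.a * Ly.b * Ly.a * (Ly.b⁻¹))⁻¹))
    (mem_extra 64 (by decide)) (by decide +kernel) ?_
  simp only [map_mul, map_inv, map_pow, agree_a, agree_b, agree_c, agree_d]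

theorem agree_x365 : rewritten Ly.x365 = proj Ly.x365 := by
  refine agree_of (w := ((Ly.a * ((Ly.b ^ 2)⁻¹) * (Ly.a⁻¹) * Ly.c * Ly.b * (Ly.c⁻¹) * Ly.b * (Ly.a⁻¹) * ((Ly.c ^ 2)⁻¹) * Ly.d * Ly.c * Ly.a * Ly.c * (Ly.a⁻¹) * Ly.c * (Ly.b⁻¹) * (Ly.d⁻¹))⁻¹))
    (mem_extra 65 (by decide)) (by decide +kernel) ?_
  simp only [map_mul, map_inv, map_pow, agree_a, agree_b, agree_c, agree_d]

theorem agree_x366 : rewritten Ly.x366 = proj Ly.x366 := by
  refine agree_of (w := ((Ly.b * Ly.a * (Ly.b⁻¹) * (Ly.a⁻¹) * ((Ly.b ^ 2)⁻¹) * (Ly.a⁻¹) * (Ly.b⁻¹) * Ly.c * (Ly.b ^ 2) * Ly.c * Ly.b * Ly.d * Ly.c * ((Ly.b ^ 2)⁻¹) * Ly.d * Ly.c * Ly.b * Ly.c)⁻¹))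
    (mem_extra 66 (by decide)) (by decide +kernel) ?_
  simp only [map_mul, map_inv, map_pow, agree_a, agree_b, agree_c, agree_d]

theorem agree_x367 : rewritten Ly.x367 = proj Ly.x367 := by
  refine agree_of (w := (((Ly.c⁻¹) * (Ly.b⁻¹) * (Ly.c⁻¹) * (Ly.d⁻¹) * (Ly.b ^ 2) * (Ly.c⁻¹) * (Ly.d⁻¹) * (Ly.b⁻¹) * (Ly.c⁻¹) * ((Ly.b ^ 2)⁻¹) * (Ly.c⁻¹) * Ly.b * Ly.a * (Ly.b ^ 2) * Ly.a * Ly.b * (Ly.a⁻¹) * (Ly.b⁻¹))⁻¹))
    (mem_extra 67 (by decide)) (by decide +kernel) ?_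
  simp only [map_mul, map_inv, map_pow, agree_a, agree_b, agree_c, agree_d]

theorem agree_x368 : rewritten Ly.x368 = proj Ly.x368 := by
  refine agree_of (w := (((Ly.a⁻¹) * (Ly.c⁻¹) * (Ly.d⁻¹) * Ly.a * (Ly.c⁻¹) * (Ly.b⁻¹) * Ly.a * (Ly.c⁻¹) * (Ly.d⁻¹) * (Ly.a⁻¹) * (Ly.c⁻¹) * Ly.a * Ly.c * ((Ly.b ^ 2)⁻¹) * (Ly.c⁻¹) * (Ly.b⁻¹) * (Ly.a⁻¹) * ((Ly.b ^ 2)⁻¹))⁻¹))
    (mem_extra 68 (by decide)) (by decide +kernel) ?_
  simp only [map_mul, map_inv, map_pow, agree_a, agree_b, agree_c, agree_d]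

theorem agree_x369 : rewritten Ly.x369 = proj Ly.x369 := by
  refine agree_of (w := (((Ly.a⁻¹) * (Ly.c⁻¹) * (Ly.d⁻¹) * Ly.b * (Ly.a⁻¹) * (Ly.b⁻¹) * (Ly.c⁻¹) * (Ly.d⁻¹) * Ly.b * (Ly.a⁻¹) * (Ly.b⁻¹) * (Ly.c⁻¹) * (Ly.b⁻¹) * Ly.a * ((Ly.b ^ 2)⁻¹) * Ly.a * (Ly.b⁻¹))⁻¹))
    (mem_extra 69 (by decide)) (by decide +kernel) ?_
  simp only [map_mul, map_inv, map_pow, agree_a, agree_b, agree_c, agree_d]

theorem agree_x370 : rewritten Ly.x370 = proj Ly.x370 := by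
  refine agree_of (w := (((Ly.d⁻¹) * Ly.a * Ly.c * Ly.b * Ly.c * (Ly.a⁻¹) * (Ly.c⁻¹) * (Ly.d⁻¹) * Ly.a * (Ly.b⁻¹) * (Ly.a⁻¹) * Ly.c * (Ly.a⁻¹) * ((Ly.b ^ 2)⁻¹) * (Ly.a⁻¹) * Ly.b * (Ly.a⁻¹))⁻¹))
    (mem_extra 70 (by decide)) (by decide +kernel) ?_
  simp only [map_mul, map_inv, map_pow, agree_a, agree_b, agree_c, agree_d]

theorem agree_x371 : rewritten Ly.x371 = proj Ly.x371 := by
  refine agree_of (w := (((Ly.c⁻¹) * (Ly.a⁻¹) * Ly.c * Ly.b * (Ly.c⁻¹) * (Ly.d⁻¹) * Ly.c * (Ly.a⁻¹) * Ly.c * Ly.a * Ly.c * (Ly.b⁻¹) * (Ly.a⁻¹) * (Ly.b⁻¹) * (Ly.a⁻¹) * Ly.b)⁻¹))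
    (mem_extra 71 (by decide)) (by decide +kernel) ?_
  simp only [map_mul, map_inv, map_pow, agree_a, agree_b, agree_c, agree_d]

theorem rewritten_eq : rewritten = proj := by
  refine FreeGroup.ext_hom _ _ fun g => ?_
  cases g
  exacts [agree_a, agree_b, agree_c, agree_d, agree_z, agree_e, agree_a1, agree_a2, agree_a3, agree_a4, agree_c1, agree_c2, agree_c3, agree_c4, agree_c5, agree_u, agree_x23, agree_x24, agree_x25, agree_x29, agree_x47, agree_x96, agree_x129, agree_x162, agree_x163, agree_x164, agree_x165, agree_x166, agree_x167, agree_x168, agree_x169, agree_x364, agree_x365, agree_x366, agree_x367, agree_x368, agree_x369, agree_x370, agree_x371]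

theorem subst_extra : Ly.extra.map subst = relX.map (word 5) := by decide +kernel

theorem proj_back_relX {l : List ℕ} (hl : l ∈ relX) : proj (back (word 5 l)) = 1 := by
  have h : word 5 l ∈ Ly.extra.map subst := subst_extra ▸ List.mem_map.2 ⟨l, hl, rfl⟩
  obtain ⟨r, hr, hrl⟩ := List.mem_map.1 h
  rw [← hrl]
  exact (DFunLike.congr_fun rewritten_eq r).trans (proj_extra hr)

theorem mem_relX_of_extra {r : FreeGroup Ly.Gen} (hr : r ∈ Ly.extra) :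
    ∃ l ∈ relX, subst r = word 5 l := by
  have h : subst r ∈ relX.map (word 5) := subst_extra ▸ List.mem_map.2 ⟨r, hr, rfl⟩
  obtain ⟨l, hl, hlr⟩ := List.mem_map.1 h
  exact ⟨l, hl, hlr.symm⟩

end Cfsg.Agent.Lib.LyG2
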