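import Cfsg.Agent.Lib.LyG2.RepAlphabet
import Cfsg.Agent.Lib.LyG2.Subst

/-!
The 111-dimensional representation of the presented Lyons group over the integers modulo 5, and
its consequence that the generator a is nontrivial in that group.
-/

set_option autoImplicit false
set_option maxRecDepth 20000

namespace Cfsg.Agent.Lib.LyG2

open Cfsg.Spor Cfsg.Agent.Lib.ExactCover

theorem relX_triv : relX.all repAlph.trivW = true := by decide +kernel

/-- The homomorphism of the free group. -/
noncomputable def repFree : FreeGroup Ly.Gen →* GL (Fin 111) (ZMod 5) :=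
  FreeGroup.lift fun g => repAlph.hom (word 5 (defWord g))

theorem repFree_eq : repFree = repAlph.hom.comp subst :=
  FreeGroup.ext_hom _ _ fun g => by simp [repFree, subst]

theorem repFree_rels : ∀ r ∈ relators, repFree r = 1 := by
  intro r hr
  rcases hr with hr | hr
  · simp [coxRelators, coxNodes, Ly.edges] at hr
  · obtain ⟨l, hl, hs⟩ := mem_relX_of_extra hr
    rw [repFree_eq, MonoidHom.comp_apply, hs]
    exact repAlph.hom_trivW (List.all_eq_true.1 relX_triv l hl)

/-- The representation of the presented Lyons group. -/
noncomputable def rho : PresentedGroup relators →* GL (Fin 111) (ZMod 5) :=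
  PresentedGroup.toGroup repFree_rels

theorem rho_word (g : Ly.Gen) :
    rho (PresentedGroup.mk relators (FreeGroup.of g)) = repAlph.hom (word 5 (defWord g)) :=
  PresentedGroup.toGroup.of repFree_rels

/-- The generator a is not the identity in the representation. -/
theorem rho_ne : rho (PresentedGroup.mk relators Ly.a) ≠ 1 := by
  intro h
  have h' : rho (PresentedGroup.mk relators (FreeGroup.of Ly.Gen.a)) = 1 := h
  rw [rho_word, show defWord Ly.Gen.a = [0] from rfl, repAlph.hom_letter 0 (by norm_num)] at h'
  have h1 := congrArg Units.val h'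
  rw [repAlph.val_unit (by norm_num), Units.val_one, ← Code.val_oneL 111] at h1
  have hne : ((List.range 111).any fun i =>
      !(Nat.beq ((repAlph.prows 0).getD i 0) (((Code.oneL 111).map Code.pack).getD i 0))) = true := by
    decide +kernel
  obtain ⟨i, hi, hb⟩ := List.any_eq_true.1 hne
  rw [List.mem_range] at hi
  obtain ⟨hok, hp⟩ := repAlph.rows_spec (g := 0) (by norm_num)
  have hL : repAlph.rows 0 = Code.oneL 111 := by
    refine List.ext_getElem (hok.1.trans (Code.OK_oneL 111).1.symm) fun k hk hk' => ?_
    have l1 := (hok.2 _ (List.getElem_mem hk)).1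
    have l2 := ((Code.OK_oneL 111).2 _ (List.getElem_mem hk')).1
    refine List.ext_getElem (l1.trans l2.symm) fun j hj hj' => ?_
    have he := congrFun (congrFun h1 ⟨k, hok.1 ▸ hk⟩) ⟨j, l1 ▸ hj⟩
    simp only [Code.val, Matrix.of_apply, List.getD_eq_getElem _ _ hk,
      List.getD_eq_getElem _ _ hk', List.getD_eq_getElem _ _ hj, List.getD_eq_getElem _ _ hj'] at he
    rw [ZMod.natCast_eq_natCast_iff'] at he
    have b1 := (hok.2 _ (List.getElem_mem hk)).2 _ (List.getElem_mem hj)
    have b2 := ((Code.OK_oneL 111).2 _ (List.getElem_mem hk')).2 _ (List.getElem_mem hj')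
    omega
  rw [hp, hL] at hb
  simp at hb

/-- The generator a is nontrivial in the presented Lyons group. -/
theorem mk_a_ne : PresentedGroup.mk relators Ly.a ≠ 1 := fun h => rho_ne (by rw [h, map_one])

end Cfsg.Agent.Lib.LyG2
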