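import Cfsg.Agent.Lib.LyG2.Eval
import Cfsg.Agent.Lib.LyG2.Data111

/-!
The coded matrices of the 111-dimensional representation.
-/

set_option autoImplicit false
set_option maxRecDepth 20000

namespace Cfsg.Agent.Lib.LyG2

/-- The packed rows of a letter. -/
noncomputable def repPacked (g : ℕ) : List ℕ := repPRows.getD g []

/-- The packed identity. -/
noncomputable def repOne : ℕ :=
  Code.packB (32 * 111) ((List.range 111).map fun i => Nat.pow 2 (32 * i))

theorem repOne_ok : Nat.beq repOne (Code.packM 111 (Code.oneL 111)) = true := by decide +kernel

theorem repPairs_ok : ((List.range (2 * 5)).all fun g => (Nat.beq (repPacked g).length 111 &&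
    (repPacked g).all (Code.okRow 111)) &&
    Nat.beq (Code.mulM 111 (Code.packB (32 * 111) (repPacked g)) (repPacked (ExactCover.flip g)))
      repOne) = true := by
  decide +kernel

/-- The 111-dimensional alphabet. -/
noncomputable def repAlph : Alphabet 111 5 where
  prows := repPacked
  oneP := repOne
  bound := by norm_num
  one_ok := repOne_ok
  pairs_ok := repPairs_ok

end Cfsg.Agent.Lib.LyG2
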